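import Cfsg.Agent.BlkF.Cover

/-!
# Blocks with central defect groups are nilpotent; blocks of `Q C_G(Q)`
-/

set_option autoImplicit false
set_option linter.style.haveILetI false
set_option linter.unusedSectionVars false

namespace Cfsg.Agent.BlkF

open Cfsg Cfsg.Agent.Blk MonoidAlgebra

section

variable {k : Type*} [Field k] {G : Type*} [Group G] [Finite G]
variable {p : ℕ} [Fact p.Prime] [CharP k p]

/-- blocks with central defect group are nilpotent -/
theorem mnilp_of_central {b : MonoidAlgebra k G} {D : Subgroup G} (hD : IsDef p ⊤ b D)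
    (hZ : D ≤ Subgroup.center G) : MNilp p b := by
  intro R r hR x hx hxp
  have h1 : br R b ≠ 0 := by
    intro h0
    have := hR.2.2
    rw [h0, zero_mul] at this
    exact hR.1.blk.ne_zero this.symm
  obtain ⟨u, -, hu⟩ := hD.le_of_br_ne le_top hR.1.isPGroup h1
  rw [Subgroup.mem_centralizer_iff]
  intro y hy
  have h2 := hZ ((mem_map_conj_iff D u y).1 (hu hy))
  have h3 : y ∈ Subgroup.center G := by
    have h4 := (inferInstance : (Subgroup.center G).Normal).conj_mem _ h2 u
    have h5 : u * (u⁻¹ * y * u) * u⁻¹ = y := by group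
    rwa [h5] at h4
  exact (Subgroup.mem_center_iff.1 h3 x).symm

theorem normal_subgroupOf_centralizer (Q : Subgroup G) {T : Subgroup G}
    (hT : T ≤ Subgroup.normalizer (Q : Set G)) :
    ((Subgroup.centralizer (Q : Set G)).subgroupOf T).Normal := by
  constructor
  intro n hn g
  rw [Subgroup.mem_subgroupOf] at hn ⊢
  exact (Subgroup.mem_normalizer_iff.1 (normalizer_le_normalizer_centralizer Q (hT g.2)) n).1 hn

/-- The block of `Q C_G(Q)` with the idempotent `f`, when `Z(Q)` is a defect group of `f`. -/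
theorem mnilp_sup {Q : Subgroup G} (hQ : IsPGroup p Q) {f : MonoidAlgebra k G}
    (hf : IsBlk (Subgroup.centralizer (Q : Set G)) f)
    (hD : IsDef p (Subgroup.centralizer (Q : Set G)) f (Q ⊓ Subgroup.centralizer (Q : Set G)))
    {T : Subgroup G} (hT : T = Q ⊔ Subgroup.centralizer (Q : Set G))
    (hsupp : ∀ (K : Subgroup T) (e : MonoidAlgebra k T), IsBlk K e →
      Supp ((Subgroup.centralizer (Q : Set G)).subgroupOf T) e) :
    MNilp p (res T f) := by
  classical
  set C := Subgroup.centralizer (Q : Set G) with hC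
  have hCT : C ≤ T := by rw [hT]; exact le_sup_right
  have hQT : Q ≤ T := by rw [hT]; exact le_sup_left
  have hTN : T ≤ Subgroup.normalizer (Q : Set G) := by
    rw [hT]; exact sup_le Subgroup.le_normalizer (centralizer_le_normalizer Q)
  have hnorm := normal_subgroupOf_centralizer Q hTN
  have hfT : incl T (res T f) = f := incl_res (hf.supp.mono hCT)
  have hmC : (C.subgroupOf T).map T.subtype = C := map_subgroupOf' hCT
  have hidx : ∃ m : ℕ, (C.subgroupOf T).index = p ^ m := by
    have h1 : C.relIndex T = C.relIndex Q := by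
      refine relIndex_eq_of_mul hQT fun t ht => ?_
      rw [hT] at ht
      exact (mem_sup_centralizer (Subgroup.le_normalizer)).1 ht
    obtain ⟨n, hn⟩ := IsPGroup.iff_card.1 hQ
    have h2 : C.relIndex Q ∣ p ^ n := by
      rw [← hn]; exact Subgroup.relIndex_dvd_card C Q
    obtain ⟨m, -, hm⟩ := (Nat.dvd_prime_pow (Fact.out : p.Prime)).1 h2
    exact ⟨m, by rw [← hm, ← h1]; rfl⟩
  set N' : Subgroup T := C.subgroupOf T with hN'
  have hfN : Supp N' (res T f) := by
    rw [← supp_incl_iff, hfT, hmC]; exact hf.supp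
  have hfN' : incl N' (res N' (res T f)) = res T f := incl_res hfN
  have hblkN : IsBlk ⊤ (res N' (res T f)) := by
    rw [← isBlk_incl_iff, hfN', ← isBlk_incl_map_iff, hfT, hmC]; exact hf
  have hblkT : IsBlk ⊤ (incl N' (res N' (res T f))) := by
    rw [hfN', ← isBlk_incl_iff, hfT]
    refine hf.of_centralizer hQ hQT hCT hTN ?_
    rw [hT]
    exact Fixed.sup hf.supp.fixed_of_centralizer hf.fixed
  rw [← hfN']
  refine mnilp_up hidx hsupp hblkN hblkT ?_
  -- the defect group
  have hQCT : Q ⊓ C ≤ T := inf_le_right.trans hCT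
  have h1 : IsDef p N' (res T f) ((Q ⊓ C).subgroupOf T) := by
    rw [← isDef_incl_iff, hmC, hfT, map_subgroupOf' hQCT]
    exact hD
  have h2 : (Q ⊓ C).subgroupOf T ≤ N' := h1.le
  have h3 : IsDef p ⊤ (res N' (res T f)) (((Q ⊓ C).subgroupOf T).subgroupOf N') := by
    rw [← isDef_incl_top_iff, hfN', map_subgroupOf' h2]
    exact h1
  refine mnilp_of_central h3 ?_
  intro d hd
  rw [Subgroup.mem_center_iff]
  intro c
  have h4 : ((d : T) : G) ∈ Q := (Subgroup.mem_subgroupOf.1 (Subgroup.mem_subgroupOf.1 hd)).1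
  have h5 : ((c : T) : G) ∈ C := Subgroup.mem_subgroupOf.1 c.2
  apply Subtype.ext
  apply Subtype.ext
  exact (Subgroup.mem_centralizer_iff.1 h5 _ h4).symm

end

end Cfsg.Agent.BlkF
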