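import Cfsg.Agent.BlkF.MajorChar
import Cfsg.Agent.BlkF.Abel

/-!
# Major subsections: no character of the block vanishes on the section (owner: helper78)

`(P, g)` a maximal pair, `e` a block of `k[C]`, `C_G(P) ≤ C`, with defect group `P` below `(P, g)`,
`u` a central `p`-element of `C`. Then `Tr_C^G(u e)` is not nilpotent in the block of `(P, g)`, so
every character of this block is non-zero at some `u c`, `c` a `p`-regular element of `C`.
-/

set_option autoImplicit false
set_option linter.style.haveILetI false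
set_option linter.unusedSectionVars false

namespace Cfsg.Agent.BlkF

open Cfsg.Agent.Blk MonoidAlgebra

section mod

variable {k : Type*} [Field k] {G : Type*} [Group G] [Finite G]
variable {p : ℕ} [Fact p.Prime] [CharP k p]

/-- **Brauer image of the trace of `s e`**, `e` a major block of `k[C]`. -/
theorem br_relTr_major_mul {P C : Subgroup G} {e g s : MonoidAlgebra k G}
    (hmax : MMax p P g) (hCC : Subgroup.centralizer (P : Set G) ≤ C)
    (he : IsBlk C e) (hd : IsDef p C e P) (heg : br P e * g = g)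
    (hsS : Supp (Subgroup.centralizer (P : Set G)) s) (hsF : Fixed C s) :
    br P (relTr C ⊤ (s * e)) * g =
      relTr (stab (Subgroup.normalizer (P : Set G)) g ⊓ C)
        (stab (Subgroup.normalizer (P : Set G)) g) (s * g) := by
  classical
  set T := stab (Subgroup.normalizer (P : Set G)) g with hT
  set N := Subgroup.normalizer (P : Set G) with hN
  have hg := hmax.1.blk
  have hP := hd.isPGroup
  have hPC : P ≤ C := hd.le
  have hPT : P ≤ T := le_stab hg
  have hTN : T ≤ N := stab_le _ _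
  have hfT : Fixed T g := fixed_stab _ g
  have hdT : IsDef p T g P := hmax.isDef_stab
  have hblkT' : IsBlk (T ⊓ C) g := hg.of_centralizer hP (le_inf hPT hPC)
    (le_inf (centralizer_le_stab hg) hCC) (inf_le_left.trans hTN) (hfT.mono inf_le_left)
  have hdT' : IsDef p (T ⊓ C) g P := isDef_of_le hblkT' inf_le_left hdT (le_inf hPT hPC)
  have hf := br_eq_relTr_stab hg hCC he hd heg hdT'
  obtain ⟨a0, -, ha0, ha0t⟩ := hd.tr
  have hb0 : Fixed P (br P a0) := ha0.br Subgroup.le_normalizer
  have hPNC : P ≤ N ⊓ C := le_inf (hPT.trans hTN) hPC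
  have hsP : Fixed P s := hsF.mono hPC
  have hsb : br P s = s := br_of_supp hsS
  have hfT' : Fixed (T ⊓ C) g := hfT.mono inf_le_left
  have hfTs : Fixed (T ⊓ C) (s * g) := (hsF.mono inf_le_right).mul hfT'
  have h1 : br P (relTr C ⊤ (s * e)) = relTr (N ⊓ C) N (s * br P e) := by
    have h2 : relTr C ⊤ (s * e) = relTr P ⊤ (s * a0) := by
      rw [← ha0t, ← relTr_mul_left hsF, relTr_relTr hPC le_top (hsP.mul ha0)]
    have h3 : br P e = relTr P (N ⊓ C) (br P a0) := by
      rw [← ha0t, br_relTr_self hPC hP ha0, inf_comm]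
    rw [h2, br_relTr_self le_top hP (hsP.mul ha0), top_inf_eq, h3, br_mul hP hsP ha0, hsb,
      ← relTr_mul_left (hsF.mono inf_le_right), relTr_relTr hPNC inf_le_left (hsP.mul hb0)]
  rw [h1, hf, ← relTr_mul_left (hsF.mono inf_le_right),
    relTr_relTr (inf_le_inf_right C hTN) inf_le_left hfTs,
    ← relTr_relTr (inf_le_left : T ⊓ C ≤ T) hTN hfTs]
  set y := relTr (T ⊓ C) T (s * g) with hy
  have hyF : Fixed T y := fixed_relTr inf_le_left hfTs
  have hyS : Supp (Subgroup.centralizer (P : Set G)) y :=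
    supp_relTr (hTN.trans (normalizer_le_normalizer_centralizer P)) (hsS.mul hg.supp)
  have hyg : y * g = y := by
    rw [hy, ← relTr_mul_right hfT, mul_assoc, hg.idem]
  have hgy : g * y = y := by rw [mul_comm_of_fixed hg.fixed hyS, hyg]
  obtain ⟨a, haS, haP, hag, hga, hat⟩ := exists_trace_in hg hTN hfT hdT
  have h4 : relTr T N y = relTr P N (y * a) := by
    have h5 : y = relTr P T (y * a) := by
      rw [relTr_mul_left hyF, hat, hyg]
    nth_rewrite 1 [h5]
    rw [relTr_relTr hPT hTN ((hyF.mono hPT).mul haP)]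
  have h5 := mul_relTr_stab hg hPT hTN le_rfl (fun v hv hv' => ⟨hv, hv'⟩) hfT
    ((hyF.mono hPT).mul haP) (a := y * a) (by rw [← mul_assoc, hgy])
  have hS : Supp (Subgroup.centralizer (P : Set G)) (relTr P N (y * a)) :=
    supp_relTr (normalizer_le_normalizer_centralizer P) (hyS.mul haS)
  rw [h4, ← mul_comm_of_fixed hg.fixed hS, h5, relTr_mul_left hyF, hat, hyg]

/-- the trace of `s e`, `e` a major block, `s - 1` nilpotent, is not nilpotent in the block. -/
theorem not_isNilpotent_relTr_major_mul {P C : Subgroup G} {b e g s : MonoidAlgebra k G}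
    (hmax : MMax p P g) (hb : MPairOf p b P g)
    (hsp : SplitBlk (Subgroup.centralizer (P : Set G)) g)
    (hCC : Subgroup.centralizer (P : Set G) ≤ C)
    (he : IsBlk C e) (hd : IsDef p C e P) (heg : br P e * g = g)
    (hsS : Supp (Subgroup.centralizer (P : Set G)) s) (hsF : Fixed C s)
    (hsn : IsNilpotent (s - 1)) :
    ¬ IsNilpotent (relTr C ⊤ (s * e) * b) := by
  classical
  have hg := hmax.1.blk
  have hP := hd.isPGroup
  have hPC : P ≤ C := hd.le
  have h1 := br_relTr_major_mul hmax hCC he hd heg hsS hsF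
  set T := stab (Subgroup.normalizer (P : Set G)) g with hT
  have hfT : Fixed T g := fixed_stab _ g
  have hTK : T ≤ Subgroup.normalizer ((Subgroup.centralizer (P : Set G) : Subgroup G) : Set G) :=
    (stab_le _ _).trans (normalizer_le_normalizer_centralizer P)
  have hndvd : ¬ p ∣ (T ⊓ C).relIndex T := by
    intro h
    refine not_dvd_relIndex hg hsp (centralizer_le_stab hg) hTK hfT
      hmax.isDef_stab (h.trans ?_)
    have h2 : P ⊔ Subgroup.centralizer (P : Set G) ≤ T ⊓ C :=
      sup_le (le_inf (le_stab hg) hPC) (le_inf (centralizer_le_stab hg) hCC)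
    exact Subgroup.relIndex_dvd_of_le_left T h2
  have hn0 : (((T ⊓ C).relIndex T : ℕ) : k) ≠ 0 := fun h =>
    hndvd ((CharP.cast_eq_zero_iff k p _).1 h)
  set n : k := (((T ⊓ C).relIndex T : ℕ) : k) with hn
  set w := relTr (T ⊓ C) T (s * g) with hw
  have hZs : InZ (Subgroup.centralizer (P : Set G)) (s - 1) :=
    ⟨fun x hx => by
      have h3 : (1 : MonoidAlgebra k G).coeff x = 0 := by
        rw [one_def, coeff_single, Finsupp.single_apply, if_neg]
        rintro rfl
        exact hx (Subgroup.one_mem _)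
      have h4 : (s - 1).coeff x = s.coeff x - (1 : MonoidAlgebra k G).coeff x := by simp
      rw [h4, h3, hsS x hx, sub_zero],
     fun v hv => by rw [cj_sub, hsF v (hCC hv), Fixed.one (P := C) v (hCC hv)]⟩
  have hZd : InZ (Subgroup.centralizer (P : Set G)) ((s - 1) * g) := hZs.mul hg.inZ
  have hnd : IsNilpotent ((s - 1) * g) := by
    have hc : Commute (s - 1) g := hZs.comm hg.supp
    exact hc.isNilpotent_mul_right hsn
  have hwd : w = n • g + relTr (T ⊓ C) T ((s - 1) * g) := by
    rw [hw, hn, ← relTr_of_fixed inf_le_left hfT, ← relTr_add]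
    congr 1
    rw [sub_mul, one_mul]
    abel
  have hdN : IsNilpotent (relTr (T ⊓ C) T ((s - 1) * g)) := isNilpotent_relTr hTK hZd hnd
  have hdZ : InZ (Subgroup.centralizer (P : Set G)) (relTr (T ⊓ C) T ((s - 1) * g)) := by
    refine ⟨supp_relTr hTK hZd.1, ?_⟩
    have h3 : Fixed (T ⊓ C) ((s - 1) * g) :=
      (fun v hv => by
        rw [cj_mul, cj_sub, hsF v hv.2, Fixed.one (P := C) v hv.2, hfT v hv.1])
    exact (fixed_relTr inf_le_left h3).mono (centralizer_le_stab hg)
  have hwZ : InZ (Subgroup.centralizer (P : Set G)) w := by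
    rw [hwd]
    exact ⟨(hg.supp.smul n).add hdZ.1, (hg.fixed.smul n).add hdZ.2⟩
  have hwn : ¬ IsNilpotent w := by
    intro h
    have h3 : IsNilpotent (w - relTr (T ⊓ C) T ((s - 1) * g)) :=
      Commute.isNilpotent_sub (hwZ.comm hdZ.1) h hdN
    rw [hwd, add_sub_cancel_right] at h3
    have h4 := h3.smul n⁻¹
    rw [smul_smul, inv_mul_cancel₀ hn0, one_smul] at h4
    exact hg.not_nilpotent h4
  have hwg : w * g = w := by
    rw [hw, ← relTr_mul_right hfT, mul_assoc, hg.idem]
  set z := relTr C ⊤ (s * e) with hz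
  have hzF : Fixed ⊤ z := fixed_relTr le_top (hsF.mul he.fixed)
  have hzP : Fixed P z := hzF.mono le_top
  have hbP : Fixed P b := hb.2.1.fixed.mono le_top
  rintro ⟨m, hm⟩
  apply hwn
  have h2 := br_pow hP (hzP.mul hbP) m
  rw [hm, br_zero, br_mul hP hzP hbP] at h2
  have h3 : ∀ m : ℕ, (br P z * br P b) ^ m * g = w ^ m * g := by
    intro m
    induction m with
    | zero => rw [pow_zero, pow_zero]
    | succ m ih =>
      have h5 : g * w = w := by rw [← hwZ.comm hg.supp, hwg]
      have h6 : br P z * br P b * g = w := by rw [mul_assoc, hb.2.2, h1]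
      calc (br P z * br P b) ^ (m + 1) * g = (br P z * br P b) ^ m * (br P z * br P b * g) := by
            rw [pow_succ, mul_assoc]
        _ = (br P z * br P b) ^ m * (g * w) := by rw [h6, h5]
        _ = w ^ m * g * w := by rw [← mul_assoc, ih]
        _ = w ^ (m + 1) * g := by rw [mul_assoc, h5, pow_succ, mul_assoc, hwg]
  have h4 := h3 m
  rw [← h2, zero_mul] at h4
  refine ⟨m + 1, ?_⟩
  have h5 : g * w = w := by rw [← hwZ.comm hg.supp, hwg]
  calc w ^ (m + 1) = w ^ m * (g * w) := by rw [h5, pow_succ]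
    _ = 0 := by rw [← mul_assoc, ← h4, zero_mul]

theorem isNilpotent_single_sub_one {u : G} (hu : ∃ m : ℕ, orderOf u = p ^ m) :
    IsNilpotent (MonoidAlgebra.single u (1 : k) - 1) := by
  obtain ⟨m, hm⟩ := hu
  refine ⟨p ^ m, ?_⟩
  have : CharP (MonoidAlgebra k G) p := charP_of_injective_algebraMap
    (FaithfulSMul.algebraMap_injective k (MonoidAlgebra k G)) p
  rw [sub_pow_char_pow_of_commute _ _ (Commute.one_right _), MonoidAlgebra.single_pow, one_pow, one_pow,
    ← hm, pow_orderOf_eq_one, one_def, sub_self]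

end mod

section dict

open Cfsg Cfsg.Agent.CharBase Cfsg.Agent.BlkInd Cfsg.Agent.BlkC

universe u

variable {G : Type u} [Group G] [Fintype G] {p : ℕ} [hp : Fact p.Prime] {M : Ideal AlgInt}
variable [M.IsPrime]

theorem extendByZero_shift (C : Subgroup G) (e : Set (IrrCharacter C)) (u : C) (g : G) :
    extendByZero C (fun c => blockCoeff e (u⁻¹ * c)) g =
      subgroupBlockCoeff C e ((u : G)⁻¹ * g) := by
  classical
  unfold subgroupBlockCoeff
  rw [Char.extendByZero_eq_dite]
  by_cases hg : g ∈ C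
  · rw [dif_pos hg, dif_pos (C.mul_mem (C.inv_mem u.2) hg)]
    rfl
  · rw [dif_neg hg, dif_neg]
    intro h
    apply hg
    have := C.mul_mem u.2 h
    rwa [mul_inv_cancel_left] at this

theorem indFun_shift (C : Subgroup G) [Fintype (G ⧸ C)] (e : Set (IrrCharacter C)) {u : C}
    (hu : ∀ c : C, c * u = u * c) (g : G) :
    indFun C (fun c => blockCoeff e (u⁻¹ * c)) g =
      ∑ q : G ⧸ C, subgroupBlockCoeff C e ((u : G)⁻¹ * (q.out⁻¹ * g * q.out)) := by
  have hC : (Nat.card C : ℂ) ≠ 0 := by exact_mod_cast Nat.card_pos.ne'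
  unfold indFun
  rw [Finset.sum_congr rfl fun x _ => extendByZero_shift C e u (x⁻¹ * g * x),
    sum_eq_sum_quotient C, ← mul_assoc, inv_mul_cancel₀ hC, one_mul]
  intro x c hc
  have h1 := subgroupBlockCoeff_conj e (C.inv_mem hc) ((u : G)⁻¹ * (x⁻¹ * g * x))
  rw [← h1]
  congr 1
  have h2 : c⁻¹ * (u : G)⁻¹ = (u : G)⁻¹ * c⁻¹ := by
    have := congrArg (Subtype.val : C → G) (hu ⟨c, hc⟩)
    simp only [Subgroup.coe_mul] at this
    rw [← mul_inv_rev, ← mul_inv_rev, this]
  rw [inv_inv]
  calc (u : G)⁻¹ * ((x * c)⁻¹ * g * (x * c)) = ((u : G)⁻¹ * c⁻¹) * (x⁻¹ * g * x) * c := by group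
    _ = (c⁻¹ * (u : G)⁻¹) * (x⁻¹ * g * x) * c := by rw [h2]
    _ = _ := by group

theorem rv_indFun_shift {C : Subgroup G} {e : Set (IrrCharacter C)} (he : IsPBlock M e) {u : C}
    (hu : ∀ c : C, c * u = u * c) : RV M (indFun C (fun c => blockCoeff e (u⁻¹ * c))) := by
  haveI := Fintype.ofFinite (G ⧸ C)
  intro g
  rw [indFun_shift C e hu]
  exact mlr_sum _ _ fun q _ => mlr_subgroupBlockCoeff he _

theorem redc_indFun_shift {C : Subgroup G} {e : Set (IrrCharacter C)} (he : IsPBlock M e) {u : C}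
    (hu : ∀ c : C, c * u = u * c) :
    redc M (indFun C (fun c => blockCoeff e (u⁻¹ * c))) =
      relTr C ⊤ (MonoidAlgebra.single (u : G) 1 * EB M C e) := by
  haveI := Fintype.ofFinite (G ⧸ C)
  apply Blk.ga_ext; intro g
  rw [redc_coeff, indFun_shift C e hu, rd_sum _ _ fun q _ => mlr_subgroupBlockCoeff he _,
    relTr_coeff]
  refine Finset.sum_congr rfl fun q _ => ?_
  unfold trTerm
  rw [if_pos (Subgroup.mem_top _), cj_coeff, coeff_single_mul_apply, one_mul, EB_coeff]

/-- **no character vanishes on a major section** -/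
theorem exists_ne_zero_of_major (hM : IsPModular p M) {P C : Subgroup G} [Fintype C]
    {B : Set (IrrCharacter G)} (hB : IsPBlock M B) {g e : MonoidAlgebra (kM M) G}
    (hmax : MMax p P g) (hb : MPairOf p (eB M B) P g)
    (hCC : Subgroup.centralizer (P : Set G) ≤ C) (he : IsBlk C e) (hd : IsDef p C e P)
    (heg : br P e * g = g) {u : C} (hu : ∀ c : C, c * u = u * c)
    (hup : ∃ m : ℕ, orderOf (u : G) = p ^ m) {χ : IrrCharacter G} (hχ : χ ∈ B) :
    ∃ c : C, ¬ p ∣ orderOf c ∧ (χ : G → ℂ) ((u : G) * c) ≠ 0 := by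
  classical
  haveI := charP_kM hM
  by_contra hcon
  push Not at hcon
  obtain ⟨e, he', rfl⟩ := exists_EB he
  have hPC : P ≤ C := hd.le
  have hcen : ∀ c ∈ C, c * (u : G) = u * c := fun c hc =>
    congrArg (Subtype.val : C → G) (hu ⟨c, hc⟩)
  have huC : (u : G) ∈ Subgroup.centralizer (P : Set G) := by
    rw [Subgroup.mem_centralizer_iff]
    intro x hx
    exact hcen x (hPC hx)
  have hsS : Supp (Subgroup.centralizer (P : Set G)) (MonoidAlgebra.single (u : G) (1 : kM M)) := by
    intro x hx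
    rw [coeff_single, Finsupp.single_apply, if_neg]
    rintro rfl
    exact hx huC
  have hsF : Fixed C (MonoidAlgebra.single (u : G) (1 : kM M)) := by
    refine fixed_single fun c hc => ?_
    rw [Subgroup.mem_centralizer_singleton_iff]
    exact hcen c hc
  have h1 := not_isNilpotent_relTr_major_mul hmax hb (splitBlk hmax.1.blk) hCC he hd heg hsS hsF
    (isNilpotent_single_sub_one hup)
  rw [isNilpotent_mul_eB_iff hB hχ (fixed_relTr le_top (hsF.mul he.fixed))] at h1
  apply h1
  have hcf := Char.indFun_isClassFunction C (fun c => blockCoeff e (u⁻¹ * c))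
  rw [← redc_indFun_shift he' hu, lam_redc χ hcf (rv_indFun_shift he' hu),
    rd_eq_zero_iff (mlr_omega χ hcf (rv_indFun_shift he' hu)),
    omega_indFun _ (irr_isClassFunction χ)]
  have h2 : ∑ c : C, blockCoeff e (u⁻¹ * c) * (χ : G → ℂ) c = 0 := by
    rw [← Equiv.sum_comp (Equiv.mulLeft u)]
    refine Finset.sum_eq_zero fun c _ => ?_
    rw [Equiv.coe_mulLeft, inv_mul_cancel_left]
    by_cases hc : p ∣ orderOf c
    · rw [blockCoeff_eq_zero_of_dvd hM he' hc, zero_mul]
    · rw [Subgroup.coe_mul, hcon c hc, mul_zero]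
  rw [h2, mul_zero, zero_div]
  exact mli_zero

/-- abelian defect groups: no character of the block vanishes on the section of an element of the
defect group -/
theorem exists_ne_zero_of_comm (hM : IsPModular p M) {B : Set (IrrCharacter G)}
    (hB : IsPBlock M B) {P : Subgroup G} (hP : IsDefectGroup p M B P)
    (hab : ∀ x ∈ P, ∀ y ∈ P, x * y = y * x) {u : G} (hu : u ∈ P) {χ : IrrCharacter G}
    (hχ : χ ∈ B) : ∃ c : G, c * u = u * c ∧ ¬ p ∣ orderOf c ∧ (χ : G → ℂ) (u * c) ≠ 0 := by
  classical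
  haveI := charP_kM hM
  haveI := Fintype.ofFinite (Subgroup.centralizer ((Subgroup.zpowers u : Subgroup G) : Set G))
  have hbb := isBlk_eB hB
  have hDef := (isDefectGroup_iff hM hB P).1 hP
  have hpair : MPair p (⊥ : Subgroup G) (eB M B) := mpair_bot hbb
  obtain ⟨g, hg⟩ := hpair.exists_norm_of_br_ne hDef.isPGroup bot_le
    (fun x _ => ⟨le_normalizer_bot P (by assumption), hbb.fixed x (Subgroup.mem_top x)⟩) hDef.br_ne
  have hPg : MPairOf p (eB M B) P g := mpairOf_iff.2 hg
  have hmax := MPairOf.mmax hPg hDef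
  have hQP : Subgroup.zpowers u ≤ P := by rwa [Subgroup.zpowers_le]
  obtain ⟨f, hfp, hf⟩ := exists_mle hmax.1 _ hQP
  have hdf := isDef_centralizer_of_comm hmax hab hf
  have hPC := le_centralizer_of_comm hab hQP
  have hn : MNorm p (Subgroup.zpowers u) f P g :=
    MLe.mnorm hf hmax.1 (hPC.trans (centralizer_le_normalizer _))
  have huC : u ∈ Subgroup.centralizer ((Subgroup.zpowers u : Subgroup G) : Set G) := hPC hu
  have hcomm : ∀ c : Subgroup.centralizer ((Subgroup.zpowers u : Subgroup G) : Set G),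
      (c : G) * u = u * c := fun c =>
    ((Subgroup.mem_centralizer_iff.1 c.2) u (Subgroup.mem_zpowers u)).symm
  obtain ⟨c, hc, hne⟩ := exists_ne_zero_of_major hM hB hmax hPg
    (centralizer_le_of_le hQP) hfp.blk hdf hn.brmul (u := ⟨u, huC⟩)
    (fun c => Subtype.ext (hcomm c)) (by
      obtain ⟨n, hn⟩ := isPGroup_orderOf hDef.isPGroup hu
      obtain ⟨m, -, hm⟩ := (Nat.dvd_prime_pow hp.out).1 (orderOf_dvd_of_pow_eq_one hn)
      exact ⟨m, hm⟩) hχ
  exact ⟨c, hcomm c, by rwa [Subgroup.orderOf_coe], hne⟩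

end dict

end Cfsg.Agent.BlkF
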