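import Cfsg.Agent.BlkF.CoverDict

/-!
# Covering of blocks between two subgroups `L ≤ H` of `G`
-/

set_option autoImplicit false
set_option linter.unusedSectionVars false
set_option linter.style.haveILetI false

universe u

namespace Cfsg.Agent.BlkF

open MonoidAlgebra Cfsg Cfsg.Agent.Blk Cfsg.Agent.CharBase

variable {G : Type u} [Group G] [Fintype G] {M : Ideal AlgInt} [hM : M.IsPrime]

theorem EB_image_subgroupOf {H L : Subgroup G} (hLH : L ≤ H) [Fintype H] [Fintype L]
    (e : Set (IrrCharacter L)) :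
    incl H (EB M (L.subgroupOf H) (irrMap (Subgroup.subgroupOfEquivOfLe hLH).symm '' e)) =
      EB M L e := by
  classical
  apply ga_ext; intro g
  rw [EB_coeff]
  by_cases hg : g ∈ H
  · rw [incl_coeff_of_mem _ hg, EB_coeff]
    congr 1
    unfold subgroupBlockCoeff
    by_cases hgL : g ∈ L
    · have h1 : (⟨g, hg⟩ : H) ∈ L.subgroupOf H := Subgroup.mem_subgroupOf.2 hgL
      rw [dif_pos h1, dif_pos hgL, blockCoeff_image]
      rfl
    · have h1 : (⟨g, hg⟩ : H) ∉ L.subgroupOf H := fun h => hgL (Subgroup.mem_subgroupOf.1 h)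
      rw [dif_neg h1, dif_neg hgL]
  · rw [incl_coeff_of_notMem _ hg]
    unfold subgroupBlockCoeff
    rw [dif_neg (fun h => hg (hLH h)), rd_zero]

/-- covering between `L ≤ H`, in terms of idempotents -/
theorem cov_sub_iff {H L : Subgroup G} (hLH : L ≤ H) [Fintype L]
    [hn : (L.subgroupOf H).Normal] {c : Set (IrrCharacter H)} (hc : IsPBlock M c)
    {e : Set (IrrCharacter L)} (he : IsPBlock M e) :
    (∃ ψ ∈ c, ∃ ξ ∈ e, classInner (fun l : L => (ψ : H → ℂ) (Subgroup.inclusion hLH l))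
      (ξ : L → ℂ) ≠ 0) ↔ EB M H c * EB M L e ≠ 0 := by
  classical
  have := Fintype.ofFinite H
  have := Fintype.ofFinite (L.subgroupOf H)
  set φ := (Subgroup.subgroupOfEquivOfLe hLH).symm with hφ
  have he' : IsPBlock M (irrMap φ '' e) := isPBlock_image φ he
  have h1 := cov_iff (N := L.subgroupOf H) hc he'
  have h2 : EB M H c * EB M L e ≠ 0 ↔ eB M c * EB M (L.subgroupOf H) (irrMap φ '' e) ≠ 0 := by
    rw [not_iff_not, ← EB_image_subgroupOf hLH e, EB_eq, ← incl_mul]
    constructor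
    · intro h
      apply incl_injective (H := H)
      rw [h, incl_zero]
    · intro h
      rw [h, incl_zero]
  rw [h2, ← h1]
  have h3 : ∀ (ψ : IrrCharacter H) (ξ : IrrCharacter L),
      classInner (fun n : L.subgroupOf H => (ψ : H → ℂ) n)
        ((irrMap φ ξ : IrrCharacter (L.subgroupOf H)) : L.subgroupOf H → ℂ) =
      classInner (fun l : L => (ψ : H → ℂ) (Subgroup.inclusion hLH l)) (ξ : L → ℂ) := by
    intro ψ ξ
    unfold classInner
    rw [Nat.card_congr φ.toEquiv]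
    congr 1
    rw [← Fintype.sum_equiv φ.toEquiv
      (fun l : L => (ψ : H → ℂ) (Subgroup.inclusion hLH l) * (starRingEnd ℂ) ((ξ : L → ℂ) l))
      (fun n : L.subgroupOf H => (ψ : H → ℂ) n * (starRingEnd ℂ)
        (((irrMap φ ξ : IrrCharacter (L.subgroupOf H)) : L.subgroupOf H → ℂ) n))]
    intro l
    rw [irrMap_apply]
    have h4 : φ.symm (φ.toEquiv l) = l := φ.symm_apply_apply l
    rw [h4]
    rfl
  constructor
  · rintro ⟨ψ, hψ, ξ, hξ, h⟩
    exact ⟨ψ, hψ, irrMap φ ξ, ⟨ξ, hξ, rfl⟩, by rw [h3]; exact h⟩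
  · rintro ⟨ψ, hψ, _, ⟨ξ, hξ, rfl⟩, h⟩
    exact ⟨ψ, hψ, ξ, hξ, by rw [← h3]; exact h⟩

end Cfsg.Agent.BlkF
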