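import Cfsg.Agent.BlkF.CoverSub
import Cfsg.Agent.BlkInd.Laradji
import Cfsg.Agent.H75.Inflate
import Cfsg.Agent.Char.Berger2

/-!
# Characters of defect zero and normal subgroups; weights
-/

set_option autoImplicit false
set_option linter.style.haveILetI false
set_option linter.unusedSectionVars false

universe u

namespace Cfsg.Agent.BlkF

open MonoidAlgebra Cfsg Cfsg.Agent.CharBase Cfsg.Agent.Blk Cfsg.Agent.BlkC

open scoped ComplexConjugate

variable {G : Type u} [Group G] [Fintype G] {M : Ideal AlgInt} [hMp : M.IsPrime]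
  {p : ℕ} [hp : Fact p.Prime]

/-- constituents on a normal subgroup of a character of defect zero have defect zero -/
theorem nu_eq_of_defect_zero (hM : IsPModular p M) {N : Subgroup G} [N.Normal] [Fintype N]
    {χ : IrrCharacter G}
    (hχ : (charDegree (χ : G → ℂ)).factorization p = (Nat.card G).factorization p)
    {θ : IrrCharacter N} (h : classInner (fun n : N => (χ : G → ℂ) n) (θ : N → ℂ) ≠ 0) :
    (charDegree (θ : N → ℂ)).factorization p = (Nat.card N).factorization p := by
  classical
  have := charP_kM hM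
  have hB : IsPBlock M (blockOf M (χ : G → ℂ)) := ⟨χ, rfl⟩
  have hc : IsPBlock M (blockOf M (θ : N → ℂ)) := ⟨θ, rfl⟩
  have h1 : IsDefectGroup p M (blockOf M (χ : G → ℂ)) ⊥ :=
    (BlkInd.laradji hM (D := ⊥) IsPGroup.of_bot bot_le χ (by rw [Subgroup.index_bot, hχ])).1
  have h2 := (isDefectGroup_iff hM hB ⊥).1 h1
  have hcov := (cov_iff hB hc).1 ⟨χ, mem_blockOf_self χ, θ, mem_blockOf_self θ, h⟩
  obtain ⟨R, hR⟩ := (isBlk_EB (M := M) hc).exists_isDef p
  obtain ⟨g, hg⟩ := exists_le_of_mul_ne (isBlk_eB hB) h2 (isBlk_EB hc) hR hcov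
  have hR1 : R = ⊥ := by
    rw [Subgroup.map_bot] at hg
    exact le_bot_iff.1 hg
  have h3 : IsDefectGroup p M (blockOf M (θ : N → ℂ)) ⊥ := by
    rw [isDefectGroup_iff' hM hc, Subgroup.map_bot, ← hR1]; exact hR
  have h4 := BlkInd.card_defectGroup hM hc h3
  have h5 : blockDefect p (blockOf M (θ : N → ℂ)) = 0 := by
    rw [Subgroup.card_bot] at h4
    exact Nat.pow_right_injective hp.out.two_le (by
      change p ^ _ = p ^ 0
      rw [← h4, pow_zero])
  have h6 := defect_add_nuMin (p := p) (block_nonempty hc)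
  have h7 := nuMin_le (p := p) (mem_blockOf_self (M := M) θ)
  have h8 := nu_le_card (p := p) θ
  unfold nu at h7 h8
  omega

theorem classInner_comp_surj {A : Type u} {B : Type u} [Group A] [Fintype A] [Group B]
    [Fintype B] (f : A →* B) (hf : Function.Surjective f) (F F' : B → ℂ) :
    classInner (fun a => F (f a)) (fun a => F' (f a)) = classInner F F' := by
  classical
  unfold classInner
  have h1 := Char.BG.sum_comp_surjective f hf (fun b => F b * conj (F' b))
  rw [h1]
  have h2 : (Nat.card A : ℂ) = Nat.card f.ker * Nat.card B := by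
    have h3 := Subgroup.card_mul_index f.ker
    rw [Subgroup.index_ker, MonoidHom.range_eq_top.2 hf, Subgroup.card_top] at h3
    exact_mod_cast h3.symm
  have h4 : (Nat.card f.ker : ℂ) ≠ 0 := by exact_mod_cast Nat.card_pos.ne'
  have h5 : (Nat.card B : ℂ) ≠ 0 := by exact_mod_cast Nat.card_pos.ne'
  rw [h2]
  field_simp

/-- a normal `p`-subgroup of a group with a character of defect zero is trivial -/
theorem eq_bot_of_defect_zero (hM : IsPModular p M) {N : Subgroup G} [hN : N.Normal]
    (hNp : IsPGroup p N) {χ : IrrCharacter G}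
    (hχ : (charDegree (χ : G → ℂ)).factorization p = (Nat.card G).factorization p) : N = ⊥ := by
  classical
  have := Fintype.ofFinite N
  obtain ⟨-, h1⟩ := BlkInd.laradji hM (D := ⊥) IsPGroup.of_bot bot_le χ
    (by rw [Subgroup.index_bot, hχ])
  have hvan : ∀ n : N, n ≠ 1 → (χ : G → ℂ) n = 0 := by
    intro n hn
    obtain ⟨k, hk⟩ := IsPGroup.iff_orderOf.1 hNp n
    refine h1 n n ⟨1, mul_one _, Commute.one_right _, ⟨k, ?_⟩, ?_⟩ ?_
    · rw [Subgroup.orderOf_coe]; exact hk
    · rw [orderOf_one]; exact hp.out.one_lt.ne' ∘ Nat.dvd_one.1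
    · rw [Subgroup.mem_bot]
      intro h; exact hn (Subtype.ext h)
  have h2 : classInner (fun n : N => (χ : G → ℂ) n) ((oneIrr N : IrrCharacter N) : N → ℂ) ≠ 0 := by
    unfold classInner
    rw [Finset.sum_eq_single (1 : N)]
    · have h3 : ((oneIrr N : IrrCharacter N) : N → ℂ) 1 = 1 := rfl
      rw [h3, map_one, mul_one]
      exact mul_ne_zero (inv_ne_zero (by exact_mod_cast Nat.card_pos.ne'))
        (irr_one_ne_zero χ.2)
    · intro n _ hn
      change (χ : G → ℂ) n * _ = 0
      rw [hvan n hn, zero_mul]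
    · intro h; exact absurd (Finset.mem_univ _) h
  have h3 := nu_eq_of_defect_zero hM hχ h2
  have h4 : charDegree ((oneIrr N : IrrCharacter N) : N → ℂ) = 1 := by
    have h5 := charDegree_spec (oneIrr N : IrrCharacter N)
    have h6 : ((oneIrr N : IrrCharacter N) : N → ℂ) 1 = 1 := rfl
    rw [h6] at h5
    exact_mod_cast h5.symm
  rw [h4, Nat.factorization_one, Finsupp.zero_apply] at h3
  obtain ⟨k, hk⟩ := IsPGroup.iff_card.1 hNp
  rw [hk, Nat.factorization_pow, Finsupp.smul_apply, hp.out.factorization_self, smul_eq_mul,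
    mul_one] at h3
  apply Subgroup.card_eq_one.1
  rw [hk, ← h3, pow_zero]

theorem charDegree_eq_of_one {A B : Type u} [Group A] [Fintype A] [Group B] [Fintype B]
    (χ : IrrCharacter A) (ψ : IrrCharacter B) (h : (χ : A → ℂ) 1 = (ψ : B → ℂ) 1) :
    charDegree (χ : A → ℂ) = charDegree (ψ : B → ℂ) := by
  rw [charDegree_spec, charDegree_spec] at h
  exact_mod_cast h

/-- A pair carrying a weight is centric and radical. -/
theorem weight_core (hM : IsPModular p M) {Q T : Subgroup G} (hQ : IsPGroup p Q) (hQT : Q ≤ T)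
    (hCT : Subgroup.centralizer (Q : Set G) ≤ T) (hTN : T ≤ Subgroup.normalizer (Q : Set G))
    {e : Set (IrrCharacter (Subgroup.centralizer (Q : Set G)))} (he : IsPBlock M e)
    {F' : Set (IrrCharacter T)} (hF' : IsPBlock M F')
    (hE : EB M T F' = EB M (Subgroup.centralizer (Q : Set G)) e)
    {χ : IrrCharacter T} (hχ : χ ∈ F')
    (hker : ∀ t ∈ Q.subgroupOf T, (χ : T → ℂ) t = (χ : T → ℂ) 1)
    (hdeg : (charDegree (χ : T → ℂ)).factorization p + (Nat.card Q).factorization p =
      (Nat.card T).factorization p) :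
    IsDefectGroup p M e ((Q ⊓ Subgroup.centralizer (Q : Set G)).subgroupOf
      (Subgroup.centralizer (Q : Set G))) ∧
    ∀ R : Subgroup G, R ≤ T → IsPGroup p R → T ≤ Subgroup.normalizer (R : Set G) → R ≤ Q := by
  classical
  have := Fintype.ofFinite T
  have hQn : (Q.subgroupOf T).Normal := Subgroup.normal_subgroupOf_of_le_normalizer hTN
  set C := Subgroup.centralizer (Q : Set G) with hC
  have := Fintype.ofFinite C
  have hTC : T ≤ Subgroup.normalizer (C : Set G) :=
    hTN.trans (normalizer_le_normalizer_centralizer Q)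
  have hCn : (C.subgroupOf T).Normal := Subgroup.normal_subgroupOf_of_le_normalizer hTC
  obtain ⟨χ', hχ', hχ'v⟩ := H75.exists_deflate_irr (Q.subgroupOf T) χ.2 hker
  have := Fintype.ofFinite (T ⧸ Q.subgroupOf T)
  set X : IrrCharacter (T ⧸ Q.subgroupOf T) := ⟨χ', hχ'⟩ with hX
  have hXdeg : charDegree (X : T ⧸ Q.subgroupOf T → ℂ) = charDegree (χ : T → ℂ) := by
    apply charDegree_eq_of_one
    change χ' 1 = _
    rw [← hχ'v 1]; rfl
  have hcardQ : Nat.card (Q.subgroupOf T) = Nat.card Q :=
    Nat.card_congr (Subgroup.subgroupOfEquivOfLe hQT).toEquiv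
  have hXnu : (charDegree (X : T ⧸ Q.subgroupOf T → ℂ)).factorization p =
      (Nat.card (T ⧸ Q.subgroupOf T)).factorization p := by
    have h1 := Subgroup.card_eq_card_quotient_mul_card_subgroup (Q.subgroupOf T)
    rw [hcardQ] at h1
    rw [h1, Nat.factorization_mul Nat.card_pos.ne' Nat.card_pos.ne', Finsupp.add_apply] at hdeg
    rw [hXdeg]
    omega
  constructor
  · -- the image of `C`
    set N' : Subgroup (T ⧸ Q.subgroupOf T) :=
      (C.subgroupOf T).map (QuotientGroup.mk' (Q.subgroupOf T)) with hN'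
    have hN'n : N'.Normal := hCn.map _ (QuotientGroup.mk'_surjective _)
    have := Fintype.ofFinite N'
    let f : C →* N' :=
      { toFun := fun c => ⟨QuotientGroup.mk' (Q.subgroupOf T) (Subgroup.inclusion hCT c),
          Subgroup.mem_map_of_mem _ (Subgroup.mem_subgroupOf.2 c.2)⟩
        map_one' := by apply Subtype.ext; simp
        map_mul' := fun a b => by apply Subtype.ext; simp }
    have hf : Function.Surjective f := by
      rintro ⟨y, x, hx, rfl⟩
      exact ⟨⟨x, Subgroup.mem_subgroupOf.1 hx⟩, rfl⟩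
    have hfker : f.ker = (Q ⊓ C).subgroupOf C := by
      ext c
      rw [MonoidHom.mem_ker, Subgroup.mem_subgroupOf]
      have h1 : f c = 1 ↔ (Subgroup.inclusion hCT c) ∈ Q.subgroupOf T := by
        rw [Subtype.ext_iff]
        exact QuotientGroup.eq_one_iff _
      rw [h1, Subgroup.mem_subgroupOf]
      constructor
      · intro h; exact ⟨h, c.2⟩
      · intro h; exact h.1
    obtain ⟨θ', hθ'⟩ := BlkInd.exists_constituent_restrict (N := N') X
    have hθ'nu := nu_eq_of_defect_zero hM hXnu hθ'
    let θ : IrrCharacter C := ⟨fun c => (θ' : N' → ℂ) (f c),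
      isIrrCharacter_comp_surjective θ'.2 f hf⟩
    have hθdeg : charDegree (θ : C → ℂ) = charDegree (θ' : N' → ℂ) := by
      apply charDegree_eq_of_one
      change (θ' : N' → ℂ) (f 1) = _
      rw [map_one]
    have hidx : ((Q ⊓ C).subgroupOf C).index = Nat.card N' := by
      rw [← hfker, Subgroup.index_ker, MonoidHom.range_eq_top.2 hf, Subgroup.card_top]
    have hlar := (BlkInd.laradji hM (D := (Q ⊓ C).subgroupOf C)
      ((hQ.to_le inf_le_left).comap_subtype) (by
        intro d hd
        rw [Subgroup.mem_center_iff]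
        intro c
        apply Subtype.ext
        have h1 := Subgroup.mem_centralizer_iff.1 c.2 d (Subgroup.mem_subgroupOf.1 hd).1
        exact h1.symm) θ (by rw [hθdeg, hidx, hθ'nu])).1
    have hc0 : IsPBlock M (blockOf M (θ : C → ℂ)) := ⟨θ, rfl⟩
    have hcl : classInner (fun l : C => (χ : T → ℂ) (Subgroup.inclusion hCT l))
        (θ : C → ℂ) ≠ 0 := by
      have h1 := classInner_comp_surj f hf (fun n : N' => (X : T ⧸ Q.subgroupOf T → ℂ) n)
        (θ' : N' → ℂ)
      have h2 : (fun l : C => (χ : T → ℂ) (Subgroup.inclusion hCT l)) =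
          fun c : C => (X : T ⧸ Q.subgroupOf T → ℂ) (f c) := by
        funext l
        exact (hχ'v _).symm
      rw [h2]
      change classInner _ (fun c : C => (θ' : N' → ℂ) (f c)) ≠ 0
      rw [h1]
      exact hθ'
    have h3 := (cov_sub_iff (M := M) hCT hF' hc0).1 ⟨χ, hχ, θ, mem_blockOf_self θ, hcl⟩
    rw [hE] at h3
    have h4 := EB_injective he hc0 ((isBlk_EB he).eq_of_mul_ne_zero (isBlk_EB hc0) h3)
    rw [h4]
    exact hlar
  · intro R hRT hRp hTR
    have hRn : (R.subgroupOf T).Normal := Subgroup.normal_subgroupOf_of_le_normalizer hTR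
    set R' : Subgroup (T ⧸ Q.subgroupOf T) :=
      (R.subgroupOf T).map (QuotientGroup.mk' (Q.subgroupOf T)) with hR'
    have hR'n : R'.Normal := hRn.map _ (QuotientGroup.mk'_surjective _)
    have h1 : R' = ⊥ := eq_bot_of_defect_zero hM (hRp.comap_subtype.map _) hXnu
    rw [hR', Subgroup.map_eq_bot_iff, QuotientGroup.ker_mk'] at h1
    intro x hx
    have := h1 (show (⟨x, hRT hx⟩ : T) ∈ R.subgroupOf T from Subgroup.mem_subgroupOf.2 hx)
    exact Subgroup.mem_subgroupOf.1 this

end Cfsg.Agent.BlkF
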